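import Mathlib.CategoryTheory.Sites.Over
import Mathlib.CategoryTheory.Sites.Subcanonical

/-!
# Sheaves on a slice category as sheaves over a representable presheaf
-/

set_option autoImplicit false

universe w v u

open CategoryTheory Opposite

namespace Groth.Agent.Lib.AlgSpGabber.OverSheaf

variable {C : Type u} [Category.{v} C] {S : C} (F : (Over S)ᵒᵖ ⥤ Type w)

/-- The restriction of a pair along `k`. -/
abbrev res {Z Z' : C} (k : Z' ⟶ Z) (f : Z ⟶ S) : Over.mk (k ≫ f) ⟶ Over.mk f := Over.homMk k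

/-- The presheaf of pairs of a morphism to `S` and a section of `F` over it. -/
def total : Cᵒᵖ ⥤ Type (max v w) where
  obj Z := Σ f : Z.unop ⟶ S, F.obj (op (Over.mk f))
  map {Z Z'} k := ↾fun p ↦ ⟨k.unop ≫ p.1, F.map (res k.unop p.1).op p.2⟩
  map_id Z := by
    refine ConcreteCategory.hom_ext _ _ fun ⟨f, x⟩ ↦ ?_
    have key : ∀ (g : Z.unop ⟶ S) (hg : g = f) (r : Over.mk g ⟶ Over.mk f), r.left = 𝟙 _ →
        (⟨g, F.map r.op x⟩ : Σ f : Z.unop ⟶ S, F.obj (op (Over.mk f))) = ⟨f, x⟩ := by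
      rintro g rfl r hr
      rw [show r = 𝟙 (Over.mk g) from Over.OverMorphism.ext hr]
      simp
    exact key (𝟙 Z.unop ≫ f) (Category.id_comp f) (res (𝟙 Z.unop) f) rfl
  map_comp {Z Z' Z''} k l := by
    refine ConcreteCategory.hom_ext _ _ fun ⟨f, x⟩ ↦ ?_
    have key : ∀ (g g' : Z''.unop ⟶ S) (hg : g = g') (r : Over.mk g ⟶ Over.mk f)
        (r' : Over.mk g' ⟶ Over.mk f), r.left = r'.left →
        (⟨g, F.map r.op x⟩ : Σ f : Z''.unop ⟶ S, F.obj (op (Over.mk f))) = ⟨g', F.map r'.op x⟩ := by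
      rintro g _ rfl r r' hr
      rw [Over.OverMorphism.ext hr]
    refine (key ((l.unop ≫ k.unop) ≫ f) (l.unop ≫ k.unop ≫ f) (Category.assoc _ _ _)
      (res (l.unop ≫ k.unop) f) (res l.unop (k.unop ≫ f) ≫ res k.unop f) rfl).trans ?_
    rw [op_comp, Functor.map_comp]
    rfl

theorem total_map {Z Z' : C} (k : Z' ⟶ Z) (p : (total F).obj (op Z)) :
    (total F).map k.op p = ⟨k ≫ p.1, F.map (res k p.1).op p.2⟩ := rfl

theorem total_map_fst {Z Z' : C} (k : Z' ⟶ Z) (p : (total F).obj (op Z)) :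
    ((total F).map k.op p).1 = k ≫ p.1 := rfl

theorem mk_ext {Z : C} {p q : Σ f : Z ⟶ S, F.obj (op (Over.mk f))} (h : p.1 = q.1)
    (h' : ∀ (r : Over.mk q.1 ⟶ Over.mk p.1), r.left = 𝟙 Z → F.map r.op p.2 = q.2) : p = q := by
  obtain ⟨f, x⟩ := p
  obtain ⟨g, y⟩ := q
  obtain rfl : f = g := h
  have := h' (𝟙 _) rfl
  simp at this
  rw [this]

theorem map_eq_of_left {A B : Over S} (r r' : A ⟶ B) (h : r.left = r'.left)
    (x : F.obj (op B)) : F.map r.op x = F.map r'.op x := by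
  rw [Over.OverMorphism.ext h]

/-- The comparison of an object of the slice with its standard form. -/
abbrev std (A : Over S) : Over.mk A.hom ≅ A := Over.isoMk (Iso.refl _)

/-- The presheaf of pairs detects sheaves. -/
theorem isSheaf_over_of_total (K : GrothendieckTopology C)
    (hy : Presieve.IsSheaf K (yoneda.obj S)) (h : Presieve.IsSheaf K (total F)) :
    Presieve.IsSheaf (K.over S) F := by
  intro A R hR x hx
  rw [GrothendieckTopology.mem_over_iff] at hR
  have hmem : ∀ {Z : C} (g : Z ⟶ A.left), Sieve.overEquiv A R g →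
      R (Over.homMk g : Over.mk (g ≫ A.hom) ⟶ A) := fun g hg ↦ (Sieve.overEquiv_iff R g).1 hg
  let y : Presieve.FamilyOfElements (total F) (Sieve.overEquiv A R).arrows :=
    fun Z g hg ↦ ⟨g ≫ A.hom, x (Over.homMk g) (hmem g hg)⟩
  have hyc : y.Compatible := by
    intro Z₁ Z₂ Z k₁ k₂ g₁ g₂ h₁ h₂ e
    rw [total_map, total_map]
    refine mk_ext F (show k₁ ≫ g₁ ≫ A.hom = k₂ ≫ g₂ ≫ A.hom from (reassoc_of% e) A.hom) fun r hr ↦ ?_
    dsimp only [y]
    rw [← Functor.map_comp_apply, ← op_comp]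
    have e' : k₁ ≫ g₁ ≫ A.hom = k₂ ≫ g₂ ≫ A.hom := by rw [reassoc_of% e]
    let r₁ : Over.mk (k₂ ≫ g₂ ≫ A.hom) ⟶ Over.mk (g₁ ≫ A.hom) := Over.homMk k₁ e'
    refine (map_eq_of_left F _ r₁ (by
      rw [Over.comp_left, hr]
      exact Category.id_comp _) _).trans ?_
    exact hx r₁ (res k₂ (g₂ ≫ A.hom)) (hmem g₁ h₁) (hmem g₂ h₂) (Over.OverMorphism.ext e)
  obtain ⟨⟨f, s⟩, hs, hu⟩ := h (Sieve.overEquiv A R) hR y hyc
  have hf : f = A.hom := (hy _ hR).isSeparatedFor.ext fun Z g hg ↦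
    congrArg Sigma.fst (hs g hg)
  subst hf
  have hrec : ∀ {A' : Over S} (g : A' ⟶ A) (hg : R g),
      F.map g.op (F.map (std A).inv.op s) = x g hg := by
    intro A' g hg
    have hg' : Sieve.overEquiv A R g.left := (Sieve.overEquiv_iff R g.left).2 (by
      have e : (Over.homMk g.left : Over.mk (g.left ≫ A.hom) ⟶ A) =
          (Over.isoMk (Iso.refl _) (by simp) : Over.mk (g.left ≫ A.hom) ≅ A').hom ≫ g :=
        Over.OverMorphism.ext (by simp)
      rw [e]
      exact R.downward_closed hg _)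
    let e : A' ⟶ Over.mk (g.left ≫ A.hom) := Over.homMk (𝟙 _) (by simp)
    have hxe : x g hg = F.map e.op (x (Over.homMk g.left : Over.mk (g.left ≫ A.hom) ⟶ A)
        (hmem g.left hg')) := by
      have := hx (𝟙 A') e hg (hmem g.left hg') (Over.OverMorphism.ext (by simp [e]))
      simpa using this
    have h2 := hs g.left hg'
    rw [total_map] at h2
    have h3 : F.map (res g.left A.hom).op s = x (Over.homMk g.left : Over.mk (g.left ≫ A.hom) ⟶ A)
        (hmem g.left hg') :=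
      eq_of_heq (Sigma.mk.inj_iff.1 h2).2
    rw [hxe, ← h3, ← Functor.map_comp_apply, ← op_comp, ← Functor.map_comp_apply, ← op_comp]
    exact map_eq_of_left F _ _ (by simp [e]) _
  refine ⟨F.map (std A).inv.op s, fun A' g hg ↦ hrec g hg, fun t ht ↦ ?_⟩
  have := hu ⟨A.hom, F.map (std A).hom.op t⟩ fun Z g hg ↦ by
    rw [total_map]
    refine mk_ext F rfl fun r hr ↦ ?_
    dsimp only [y]
    rw [← ht _ (hmem g hg), ← Functor.map_comp_apply, ← op_comp, ← Functor.map_comp_apply, ← op_comp]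
    exact map_eq_of_left F _ _ (by simp [hr]) _
  obtain rfl := eq_of_heq (Sigma.mk.inj_iff.1 this).2
  rw [← Functor.map_comp_apply, ← op_comp, Iso.inv_hom_id, op_id, Functor.map_id_apply]

/-- The presheaf of pairs of a sheaf is a sheaf. -/
theorem isSheaf_total (K : GrothendieckTopology C) (hy : Presieve.IsSheaf K (yoneda.obj S))
    (h : Presieve.IsSheaf (K.over S) F) : Presieve.IsSheaf K (total F) := by
  intro Z R hR x hx
  let y : Presieve.FamilyOfElements (yoneda.obj S) R.arrows := fun W g hg ↦ (x g hg).1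
  have hyc : y.Compatible := fun W₁ W₂ W k₁ k₂ g₁ g₂ h₁ h₂ e ↦
    congrArg Sigma.fst (hx k₁ k₂ h₁ h₂ e)
  obtain ⟨f, hf, hfu⟩ := hy R hR y hyc
  have hf' : ∀ {W : C} (g : W ⟶ Z) (hg : R g), g ≫ f = (x g hg).1 := fun g hg ↦ hf g hg
  let A : Over S := Over.mk f
  let R' : Sieve A := (Sieve.overEquiv A).symm R
  have hR' : R' ∈ (K.over S) A := by
    rw [GrothendieckTopology.mem_over_iff]
    show Sieve.overEquiv A R' ∈ K Z
    simpa [R'] using hR
  let tr : ∀ {A' : Over S} (g : A' ⟶ A) (hg : R g.left), A' ⟶ Over.mk (x g.left hg).1 :=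
    fun {A'} g hg ↦ Over.homMk (𝟙 _) (by
      change 𝟙 _ ≫ (x g.left hg).1 = A'.hom
      rw [Category.id_comp, ← hf' g.left hg]
      exact Over.w g)
  let z : Presieve.FamilyOfElements F R'.arrows := fun A' g hg ↦
    F.map (tr g hg).op (x g.left hg).2
  have hzc : z.Compatible := by
    intro A₁ A₂ A' k₁ k₂ g₁ g₂ h₁ h₂ e
    simp only [z]
    rw [← Functor.map_comp_apply, ← op_comp, ← Functor.map_comp_apply, ← op_comp]
    have hh := hx k₁.left k₂.left h₁ h₂ (congrArg CommaMorphism.left e)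
    have e₁ : A'.hom = k₁.left ≫ (x g₁.left h₁).1 := by
      rw [← hf' g₁.left h₁, ← Category.assoc, ← Over.comp_left]
      exact (Over.w (k₁ ≫ g₁)).symm
    have e₂ : A'.hom = k₂.left ≫ (x g₂.left h₂).1 := by
      rw [← hf' g₂.left h₂, ← Category.assoc, ← Over.comp_left]
      exact (Over.w (k₂ ≫ g₂)).symm
    have key : ∀ (p q : Σ f : A'.left ⟶ S, F.obj (op (Over.mk f))), p = q →
        ∀ (a : A' ⟶ Over.mk p.1) (b : A' ⟶ Over.mk q.1), a.left = 𝟙 _ → b.left = 𝟙 _ →
        F.map a.op p.2 = F.map b.op q.2 := by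
      rintro p _ rfl a b ha hb
      exact map_eq_of_left F _ _ (ha.trans hb.symm) _
    rw [total_map, total_map] at hh
    have := key _ _ hh (Over.homMk (𝟙 _) (by simp [e₁]))
      (Over.homMk (𝟙 _) (by simp [e₂])) rfl rfl
    dsimp only at this
    rw [← Functor.map_comp_apply, ← op_comp, ← Functor.map_comp_apply, ← op_comp] at this
    refine (map_eq_of_left F _ _ ?_ _).trans (this.trans (map_eq_of_left F _ _ ?_ _))
    · simp [tr]
    · simp [tr]
  obtain ⟨s, hs, hsu⟩ := h R' hR' z hzc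
  refine ⟨⟨f, s⟩, fun W g hg ↦ ?_, fun p hp ↦ ?_⟩
  · rw [total_map]
    refine mk_ext F (hf' g hg) fun r hr ↦ ?_
    dsimp only
    rw [← Functor.map_comp_apply, ← op_comp]
    let g' : Over.mk (x g hg).1 ⟶ A := Over.homMk g (hf' g hg)
    have hg' : R' g' := by
      exact (Sieve.overEquiv_symm_iff R g').2 hg
    refine (map_eq_of_left F _ g' (by
      rw [Over.comp_left, hr]
      exact Category.id_comp g) _).trans ((hs g' hg').trans ?_)
    simp only [z]
    rw [show tr g' hg = 𝟙 _ from Over.OverMorphism.ext rfl]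
    exact Functor.map_id_apply _ _ _
  · obtain ⟨f', s'⟩ := p
    obtain rfl : f' = f := hfu f' fun W g hg ↦ congrArg Sigma.fst (hp g hg)
    congr 1
    refine hsu s' fun A' g hg ↦ ?_
    have h2 := hp g.left hg
    simp only [z]
    have key : ∀ (p q : Σ f : A'.left ⟶ S, F.obj (op (Over.mk f))), p = q →
        ∀ (a : A' ⟶ Over.mk p.1) (b : A' ⟶ Over.mk q.1), a.left = 𝟙 _ → b.left = 𝟙 _ →
        F.map a.op p.2 = F.map b.op q.2 := by
      rintro p _ rfl a b ha hb
      exact map_eq_of_left F _ _ (ha.trans hb.symm) _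
    rw [total_map] at h2
    have := key _ _ h2 (Over.homMk (𝟙 _) (by
      change 𝟙 _ ≫ g.left ≫ f' = A'.hom
      rw [Category.id_comp]
      exact Over.w g)) (tr g hg) rfl rfl
    refine Eq.trans ?_ this
    dsimp only
    rw [← Functor.map_comp_apply, ← op_comp]
    exact map_eq_of_left F _ _ (by simp) _

end Groth.Agent.Lib.AlgSpGabber.OverSheaf
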