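import Groth.Agent.Lib.AlgSpFpqc.Affine
import Groth.Agent.Lib.DescAlg.IndQA.Effective
import Groth.Agent.Lib.AlgSpMor.LocP
import Groth.Agent.Lib.AlgSpMor.DiagCharts
import Groth.Agent.S1402

/-!
# Morphisms to algebraic spaces descend along faithfully flat quasi-compact morphisms
-/

set_option autoImplicit false
set_option backward.isDefEq.respectTransparency false
set_option backward.isDefEq.respectTransparency.types false

universe u

open CategoryTheory CategoryTheory.Limits AlgebraicGeometry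

namespace Groth.Agent.Lib.AlgSpGabber.Descent

open AlgSp (Sp yon IsAlgSpace RepWith Representable)
open Groth.Agent.Lib.AlgSpace

variable {S : Scheme.{u}}

/-- Faithfully flat quasi-compact morphisms. -/
abbrev ffqc : MorphismProperty Scheme.{u} := @Surjective ⊓ @Flat ⊓ @QuasiCompact

/-- A map to a space with representable diagonal is determined after an fpqc cover. -/
theorem hom_ext {X : Sp S} (hX : Representable (Limits.diag X)) {T T' : Over S} (c : T' ⟶ T)
    (hc : ffqc c.left) {a b : (yon S).obj T ⟶ X}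
    (h : (yon S).map c ≫ a = (yon S).map c ≫ b) : a = b := by
  obtain ⟨W, p, q, sq⟩ := exists_isPullback_yon hX a b
  obtain ⟨k, hk⟩ := (yon S).map_surjective (sq.lift ((yon S).map c) ((yon S).map c) h)
  have hkp : k ≫ p = c := (yon S).map_injective (by rw [Functor.map_comp, hk, sq.lift_fst])
  have hkq : k ≫ q = c := (yon S).map_injective (by rw [Functor.map_comp, hk, sq.lift_snd])
  let e : equalizer p q ⟶ T := equalizer.ι p q ≫ p
  have hmono : ∀ {Z : Over S} (z z' : Z ⟶ equalizer p q), z ≫ e = z' ≫ e → z = z' := fun z z' hz ↦ by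
    apply equalizer.hom_ext
    apply (yon S).map_injective
    apply sq.hom_ext
    · rw [← Functor.map_comp, ← Functor.map_comp, Category.assoc, Category.assoc, hz]
    · rw [← Functor.map_comp, ← Functor.map_comp, Category.assoc, Category.assoc,
        ← equalizer.condition, hz]
  have : Mono e := ⟨hmono⟩
  let k' : T' ⟶ equalizer p q := equalizer.lift k (hkp.trans hkq.symm)
  have hk' : k' ≫ e = c := by rw [equalizer.lift_ι_assoc, hkp]
  have sqe : IsPullback (𝟙 T') k' c e :=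
    ⟨⟨by rw [Category.id_comp, hk']⟩, ⟨PullbackCone.IsLimit.mk _ (fun t ↦ t.fst)
      (fun t ↦ Category.comp_id _)
      (fun t ↦ by rw [← cancel_mono e, Category.assoc, hk', t.condition])
      (fun t m h₁ _ ↦ by simpa using h₁)⟩⟩
  have : IsIso e.left := MorphismProperty.of_isPullback_of_descendsAlong
    (P := MorphismProperty.isomorphisms Scheme.{u}) (Q := ffqc) (sqe.map (Over.forget S)) hc
    (inferInstanceAs (IsIso (𝟙 T'.left)))
  have : IsIso e := by
    have : IsIso ((Over.forget S).map e) := ‹IsIso e.left›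
    exact isIso_of_reflects_iso e (Over.forget S)
  have hb : (yon S).map e ≫ a = (yon S).map e ≫ b := by
    rw [Functor.map_comp, Category.assoc, sq.w, ← Category.assoc, ← Functor.map_comp,
      ← equalizer.condition, Functor.map_comp, Category.assoc]
  exact (cancel_epi _).1 hb

/-- The property of charts from affine schemes: separated etale. -/
theorem exists_chart {X : Sp S} (hX : IsAlgSpace X) :
    ∃ (U : Over S) (u : (yon S).obj U ⟶ X), RepWith @Etale u ∧ RepWith @Surjective u ∧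
      U.left.IsSeparated := by
  obtain ⟨U, a, ha, has⟩ := hX.atlas
  choose O hO hOu using fun z : ↥U.left ↦
    (exists_isAffineOpen_mem_and_subset (X := U.left) (x := z) (U := ⊤) trivial)
  let Z : ↥U.left → Over S := fun z ↦ Over.mk ((O z).ι ≫ U.hom)
  let π : sigmaOver Z ⟶ U := Over.homMk (Sigma.desc fun z ↦ (O z).ι)
    (Sigma.hom_ext _ _ fun z ↦ by simp [Z])
  have : Etale π.left := IsZariskiLocalAtSource.sigmaDesc (P := @Etale) fun z ↦ inferInstance
  have : Surjective π.left := ⟨fun z ↦ ⟨Sigma.ι (fun z ↦ (O z).toScheme) z ⟨z, (hOu z).1⟩, by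
    change (Sigma.ι (fun z ↦ (O z).toScheme) z ≫ Sigma.desc fun z ↦ (O z).ι) ⟨z, (hOu z).1⟩ = z
    rw [Sigma.ι_desc]; rfl⟩⟩
  refine ⟨sigmaOver Z, (yon S).map π ≫ a, Lib.AlgSpMor.LocP.repWith_etale_comp π ha,
    Lib.AlgSpMor.LocP.repWith_surjective_comp π has, ?_⟩
  have : ∀ z, IsAffine (O z).toScheme := hO
  let R : ↥U.left → CommRingCat.{u} := fun z ↦ Γ((O z).toScheme, ⊤)
  let e : (∐ fun z ↦ (O z).toScheme) ≅ ∐ fun z ↦ Spec (R z) :=
    Sigma.mapIso fun z ↦ (O z).toScheme.isoSpec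
  have h : AlgebraicGeometry.IsSeparated (e.hom ≫ sigmaSpec R ≫ terminal.from _) := inferInstance
  rw [Subsingleton.elim (e.hom ≫ sigmaSpec R ≫ terminal.from _) (terminal.from _)] at h
  exact ⟨h⟩

/-- Base changes of a chart with separated source are separated. -/
theorem isSeparated_of_isPullback {X : Sp S} {U T W : Over S} [U.left.IsSeparated]
    {u : (yon S).obj U ⟶ X} {a : (yon S).obj T ⟶ X} {pT : W ⟶ T} {pU : W ⟶ U}
    (sq : IsPullback ((yon S).map pT) ((yon S).map pU) a u) : IsSeparated pT.left := by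
  refine ⟨?_⟩
  have hsep : IsSeparated U.hom := inferInstance
  have sqP : IsPullback (prod.fst : T ⨯ U ⟶ T).left (prod.snd : T ⨯ U ⟶ U).left T.hom U.hom :=
    Lib.AlgSpMor.DiagCharts.isPullback_prod_left T U
  have h1 : IsSeparated (prod.fst : T ⨯ U ⟶ T).left := MorphismProperty.of_isPullback sqP.flip hsep
  have hmono : Mono (prod.lift pT pU).left := by
    have : Mono (prod.lift pT pU) := ⟨fun z z' h ↦ (yon S).map_injective (sq.hom_ext
      (by rw [← Functor.map_comp, ← Functor.map_comp]; congr 1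
          simpa using h =≫ prod.fst)
      (by rw [← Functor.map_comp, ← Functor.map_comp]; congr 1
          simpa using h =≫ prod.snd))⟩
    exact inferInstanceAs (Mono ((Over.forget S).map (prod.lift pT pU)))
  have : IsSeparated ((prod.lift pT pU).left ≫ (prod.fst : T ⨯ U ⟶ T).left) := inferInstance
  rw [← Over.comp_left, prod.lift_fst] at this
  exact this.1

/-- The descent datum on the base change of a chart. -/
noncomputable def datum {X : Sp S} {U T T' W : Over S} {c : T' ⟶ T} {u : (yon S).obj U ⟶ X}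
    {a : (yon S).obj T' ⟶ X} {pT : W ⟶ T'} {pU : W ⟶ U}
    (sq : IsPullback ((yon S).map pT) ((yon S).map pU) a u)
    (ha : ∀ (Z : Over S) (r₁ r₂ : Z ⟶ T'), r₁ ≫ c = r₂ ≫ c →
      (yon S).map r₁ ≫ a = (yon S).map r₂ ≫ a) : Desc.SchDD c.left :=
  have ex : ∀ {Z : Scheme.{u}} (x₀ x₁ : Z ⟶ T'.left) (_ : x₀ ≫ c.left = x₁ ≫ c.left)
      (v : Desc.Lifts (Over.mk pT.left) x₀), ∃! v' : Z ⟶ W.left,
        v' ≫ pT.left = x₁ ∧ v' ≫ pU.left = v.1 ≫ pU.left := by
    intro Z x₀ x₁ h v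
    have hv : v.1 ≫ pT.left = x₀ := v.2
    let Z₀ : Over S := Over.mk (x₀ ≫ T'.hom)
    let z : Z₀ ⟶ W := Over.homMk v.1 (by
      change v.1 ≫ W.hom = x₀ ≫ T'.hom
      exact (congrArg (v.1 ≫ ·) (Over.w pT)).symm.trans
        ((Category.assoc _ _ _).symm.trans (congrArg (· ≫ T'.hom) hv)))
    let r : Z₀ ⟶ T' := Over.homMk x₁ (by
      change x₁ ≫ T'.hom = x₀ ≫ T'.hom
      rw [← Over.w c, reassoc_of% h])
    obtain ⟨l, hl⟩ := (yon S).map_surjective (sq.lift ((yon S).map r) ((yon S).map (z ≫ pU)) (by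
      rw [← ha _ (z ≫ pT) r (Over.OverMorphism.ext (by
        change (v.1 ≫ pT.left) ≫ c.left = x₁ ≫ c.left
        rw [hv, h])), Functor.map_comp, Functor.map_comp, Category.assoc, Category.assoc, sq.w]))
    have h1 : l ≫ pT = r := (yon S).map_injective (by rw [Functor.map_comp, hl, sq.lift_fst])
    have h2 : l ≫ pU = z ≫ pU := (yon S).map_injective (by rw [Functor.map_comp, hl, sq.lift_snd])
    refine ⟨l.left, ⟨congrArg (fun m ↦ Over.Hom.left m) h1,
      congrArg (fun m ↦ Over.Hom.left m) h2⟩, fun v' ⟨h1', h2'⟩ ↦ ?_⟩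
    let l' : Z₀ ⟶ W := Over.homMk v' (by
      change v' ≫ W.hom = x₀ ≫ T'.hom
      rw [← Over.w pT, reassoc_of% h1', ← Over.w c, reassoc_of% h])
    have : l' = l := (yon S).map_injective (sq.hom_ext
      (by rw [← Functor.map_comp, ← Functor.map_comp, h1]; congr 1; exact Over.OverMorphism.ext h1')
      (by rw [← Functor.map_comp, ← Functor.map_comp, h2]; congr 1; exact Over.OverMorphism.ext h2'))
    exact congrArg (fun m ↦ Over.Hom.left m) this
  { obj := Over.mk pT.left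
    φ := fun Z x₀ x₁ h ↦
      { toFun := fun v ↦ ⟨(ex x₀ x₁ h v).exists.choose, (ex x₀ x₁ h v).exists.choose_spec.1⟩
        invFun := fun v ↦ ⟨(ex x₁ x₀ h.symm v).exists.choose,
          (ex x₁ x₀ h.symm v).exists.choose_spec.1⟩
        left_inv := fun v ↦ Subtype.ext ((ex x₁ x₀ h.symm _).unique
          (ex x₁ x₀ h.symm _).exists.choose_spec ⟨v.2, (ex x₀ x₁ h v).exists.choose_spec.2.symm⟩)
        right_inv := fun v ↦ Subtype.ext ((ex x₀ x₁ h _).unique
          (ex x₀ x₁ h _).exists.choose_spec ⟨v.2, (ex x₁ x₀ h.symm v).exists.choose_spec.2.symm⟩) }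
    φ_natural := fun Z Z' g x₀ x₁ h h' v v' hv ↦
      (ex (g ≫ x₀) (g ≫ x₁) h' v').unique (ex _ _ h' v').exists.choose_spec
        ⟨(Category.assoc _ _ _).trans (congrArg (g ≫ ·) (ex x₀ x₁ h v).exists.choose_spec.1),
          by
            change (g ≫ (ex x₀ x₁ h v).exists.choose) ≫ pU.left = v'.1 ≫ pU.left
            rw [Category.assoc, (ex x₀ x₁ h v).exists.choose_spec.2, hv, Category.assoc]⟩
    φ_self := fun Z x v ↦ Subtype.ext ((ex x x rfl v).unique (ex x x rfl v).exists.choose_spec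
      ⟨v.2, rfl⟩)
    φ_comp := fun Z x₀ x₁ x₂ h₀₁ h₁₂ v ↦ Subtype.ext ((ex x₀ x₂ (h₀₁.trans h₁₂) v).unique
      ⟨(ex x₁ x₂ h₁₂ _).exists.choose_spec.1,
        (ex x₁ x₂ h₁₂ _).exists.choose_spec.2.trans (ex x₀ x₁ h₀₁ v).exists.choose_spec.2⟩
      (ex x₀ x₂ (h₀₁.trans h₁₂) v).exists.choose_spec) }

theorem datum_φ_pU {X : Sp S} {U T T' W : Over S} {c : T' ⟶ T} {u : (yon S).obj U ⟶ X}
    {a : (yon S).obj T' ⟶ X} {pT : W ⟶ T'} {pU : W ⟶ U}
    (sq : IsPullback ((yon S).map pT) ((yon S).map pU) a u)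
    (ha : ∀ (Z : Over S) (r₁ r₂ : Z ⟶ T'), r₁ ≫ c = r₂ ≫ c →
      (yon S).map r₁ ≫ a = (yon S).map r₂ ≫ a) {Z : Scheme.{u}} (x₀ x₁ : Z ⟶ T'.left)
    (h : x₀ ≫ c.left = x₁ ≫ c.left) (v : Desc.Lifts (datum sq ha).obj x₀) :
    ((datum sq ha).φ x₀ x₁ h v).1 ≫ pU.left = v.1 ≫ pU.left :=
  (((datum sq ha).φ x₀ x₁ h v).2 |> fun _ ↦ by
    unfold datum
    simp only [Equiv.coe_fn_mk]
    generalize_proofs h1
    exact h1.choose_spec.2)

/-- An ind-quasi-affine descent datum along a faithfully flat morphism of affine schemes is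
effective. -/
theorem exists_isDescended {A B : Scheme.{u}} (p : A ⟶ B) [IsAffine A] [IsAffine B] [Flat p]
    [Surjective p] (D : Desc.SchDD p) (hD : MoreMor.IsIndQuasiAffineHom D.obj.hom) :
    ∃ (U : Over B) (q : D.obj.left ⟶ U.left), FFDesc.IsDescended D U q := by
  have hV := DescAlg.IndQA.Effective.isIndQuasiAffine_left hD
  have := DescAlg.IndQA.Main.quasiSeparated_of hV
  have : IsAffineHom p := isAffineHom_of_isAffine p
  exact DescAlg.Effective.OpensCover.exists_isDescended_of_cover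
    (FFDesc.fpqcCover_of_quasiCompact p) D
    (fun O ↦ FFDesc.Invariant D O ∧ IsCompact (O : Set D.obj.left))
    (fun O O' h h' ↦ ⟨h.1.inf D h'.1,
      QuasiSeparatedSpace.inter_isCompact _ _ O.2 h.2 O'.2 h'.2⟩)
    (fun O h ↦ h.1)
    (fun v ↦ by
      obtain ⟨O, h1, h2, h3⟩ := DescAlg.IndQA.Main.exists_invariant_compact D hV v
      exact ⟨O, ⟨h1, h2⟩, h3⟩)
    (fun O h ↦ by
      have : Scheme.IsQuasiAffine (FFDesc.subDatum D h.1).obj.left := hV O h.2
      obtain ⟨U, q, H, -⟩ := FFDesc.exists_isDescended_of_quasiAffine (FFDesc.subDatum D h.1)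
      exact ⟨U, q, H⟩)

/-- The glued maps agree. -/
theorem agree {X : Sp S} (hX : IsAlgSpace X) {T T' U W V₀ : Over S} {c : T' ⟶ T}
    {a : (yon S).obj T' ⟶ X} {u : (yon S).obj U ⟶ X} {pT : W ⟶ T'} {pU : W ⟶ U} {q₀ : W ⟶ V₀}
    {dT : V₀ ⟶ T} {l₀ : V₀ ⟶ U}
    (sq : IsPullback ((yon S).map pT) ((yon S).map pU) a u)
    (ha : ∀ (Z : Over S) (r₁ r₂ : Z ⟶ T'), r₁ ≫ c = r₂ ≫ c →
      (yon S).map r₁ ≫ a = (yon S).map r₂ ≫ a)
    (hw : pT ≫ c = q₀ ≫ dT) (hql : q₀ ≫ l₀ = pU) (hq₀ : ffqc q₀.left) {Z : Over S}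
    (r₁ r₂ : Z ⟶ V₀) (hr : r₁ ≫ dT = r₂ ≫ dT) :
    (yon S).map r₁ ≫ (yon S).map l₀ ≫ u = (yon S).map r₂ ≫ (yon S).map l₀ ≫ u := by
  obtain ⟨P₁, t₁, s₁, sq₁⟩ : ∃ (P₁ : Over S) (t₁ : P₁ ⟶ Z) (s₁ : P₁ ⟶ W),
      IsPullback t₁ s₁ r₁ q₀ := ⟨_, _, _, IsPullback.of_hasPullback r₁ q₀⟩
  obtain ⟨P, t₂, s₂, sq₂⟩ : ∃ (P : Over S) (t₂ : P ⟶ P₁) (s₂ : P ⟶ W),
      IsPullback t₂ s₂ (t₁ ≫ r₂) q₀ := ⟨_, _, _, IsPullback.of_hasPullback (t₁ ≫ r₂) q₀⟩
  have hs : Surjective q₀.left := hq₀.1.1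
  have hf : Flat q₀.left := hq₀.1.2
  have hq : QuasiCompact q₀.left := hq₀.2
  have i1 : Surjective t₁.left :=
    MorphismProperty.of_isPullback (P := @Surjective) (sq₁.map (Over.forget S)).flip hs
  have i2 : Flat t₁.left :=
    MorphismProperty.of_isPullback (P := @Flat) (sq₁.map (Over.forget S)).flip hf
  have i3 : QuasiCompact t₁.left :=
    MorphismProperty.of_isPullback (P := @QuasiCompact) (sq₁.map (Over.forget S)).flip hq
  have j1 : Surjective t₂.left :=
    MorphismProperty.of_isPullback (P := @Surjective) (sq₂.map (Over.forget S)).flip hs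
  have j2 : Flat t₂.left :=
    MorphismProperty.of_isPullback (P := @Flat) (sq₂.map (Over.forget S)).flip hf
  have j3 : QuasiCompact t₂.left :=
    MorphismProperty.of_isPullback (P := @QuasiCompact) (sq₂.map (Over.forget S)).flip hq
  have hπ : ffqc (t₂ ≫ t₁).left := by
    rw [Over.comp_left]
    exact ⟨⟨inferInstance, inferInstance⟩, inferInstance⟩
  have e₁ : (t₂ ≫ t₁) ≫ r₁ = (t₂ ≫ s₁) ≫ q₀ := by
    rw [Category.assoc, sq₁.w, Category.assoc]
  have e₂ : (t₂ ≫ t₁) ≫ r₂ = s₂ ≫ q₀ := by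
    rw [Category.assoc, sq₂.w]
  refine hom_ext hX.diag (t₂ ≫ t₁) hπ ?_
  rw [← Category.assoc, ← Functor.map_comp, ← Category.assoc, ← Functor.map_comp,
    ← Category.assoc, ← Functor.map_comp, ← Category.assoc, ← Functor.map_comp, e₁, e₂,
    Category.assoc (t₂ ≫ s₁), Category.assoc s₂, hql]
  rw [Functor.map_comp, Category.assoc, Functor.map_comp (yon S) s₂, Category.assoc, ← sq.w,
    ← Category.assoc, ← Functor.map_comp, ← Category.assoc, ← Functor.map_comp]
  refine ha _ _ _ ?_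
  calc (t₂ ≫ s₁) ≫ pT ≫ c = ((t₂ ≫ s₁) ≫ q₀) ≫ dT := by rw [hw, ← Category.assoc _ q₀ dT]
    _ = ((t₂ ≫ t₁) ≫ r₁) ≫ dT := by rw [e₁]
    _ = ((t₂ ≫ t₁) ≫ r₂) ≫ dT := by rw [Category.assoc _ r₁, hr, ← Category.assoc]
    _ = (s₂ ≫ q₀) ≫ dT := by rw [e₂]
    _ = s₂ ≫ pT ≫ c := by rw [Category.assoc, hw]

/-- Gabber: a compatible map from a faithfully flat affine cover of an affine scheme descends. -/
theorem exists_desc {X : Sp S} (hX : IsAlgSpace X) {T T' : Over S} [IsAffine T.left]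
    [IsAffine T'.left] (c : T' ⟶ T) [Flat c.left] [Surjective c.left] (a : (yon S).obj T' ⟶ X)
    (ha : ∀ (Z : Over S) (r₁ r₂ : Z ⟶ T'), r₁ ≫ c = r₂ ≫ c →
      (yon S).map r₁ ≫ a = (yon S).map r₂ ≫ a) :
    ∃ b : (yon S).obj T ⟶ X, (yon S).map c ≫ b = a := by
  obtain ⟨U, u, hu, hus, hU⟩ := exists_chart hX
  obtain ⟨W, pT, pU, sq⟩ := exists_isPullback_yon hX.diag a u
  have hpe : Etale pT.left := repWith_property hu sq.flip
  have hps : Surjective pT.left := repWith_property hus sq.flip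
  have : IsSeparated pT.left := isSeparated_of_isPullback sq
  have : LocallyQuasiFinite pT.left := SourceDescent.Scheme.locallyQuasiFinite_of_etale pT.left
  let D := datum sq ha
  obtain ⟨V, q, H⟩ := exists_isDescended c.left D (Groth.Agent.S1402.result pT.left)
  have hcf : FFDesc.fpqcCover c.left := FFDesc.fpqcCover_of_quasiCompact _
  have sqV : IsPullback pT.left q c.left V.hom := H.isPullback
  let V₀ : Over S := Over.mk (V.hom ≫ T.hom)
  let dT : V₀ ⟶ T := Over.homMk V.hom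
  let q₀ : W ⟶ V₀ := Over.homMk q (by
    change q ≫ V.hom ≫ T.hom = W.hom
    rw [← reassoc_of% sqV.w, Over.w c, Over.w pT])
  have hw : pT ≫ c = q₀ ≫ dT := Over.OverMorphism.ext sqV.w
  have : IsAffineHom c.left := isAffineHom_of_isAffine _
  have hqa : IsAffineHom q := MorphismProperty.of_isPullback sqV ‹_›
  have hqf : Flat q := MorphismProperty.of_isPullback sqV ‹_›
  have hqs : Surjective q := MorphismProperty.of_isPullback sqV ‹_›
  -- the map to the chart
  have hrelU : ∀ {Z : Scheme.{u}} (x y : Z ⟶ W.left), x ≫ q = y ≫ q →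
      x ≫ pU.left = y ≫ pU.left := by
    intro Z x y hxy
    have h : (x ≫ pT.left) ≫ c.left = (y ≫ pT.left) ≫ c.left := by
      rw [Category.assoc, Category.assoc, sqV.w, reassoc_of% hxy]
    have e : (D.φ (x ≫ pT.left) (y ≫ pT.left) h ⟨x, rfl⟩).1 = y :=
      H.isPullback.hom_ext ((D.φ _ _ h ⟨x, rfl⟩).2) ((H.φ_comp_q _ _ h ⟨x, rfl⟩).trans hxy)
    rw [← e, datum_φ_pU]
  have := (H.cover hcf).effectiveEpi
  let lU : V.left ⟶ U.left := EffectiveEpi.desc q pU.left fun x y h ↦ hrelU x y h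
  have hlU : q ≫ lU = pU.left := EffectiveEpi.fac _ _ _
  let l₀ : V₀ ⟶ U := Over.homMk lU (by
    have : Epi q := inferInstance
    rw [← cancel_epi q, reassoc_of% hlU, Over.w pU]
    exact (Over.w q₀).symm)
  have hql : q₀ ≫ l₀ = pU := Over.OverMorphism.ext hlU
  have hdTe : Etale dT.left := MorphismProperty.of_isPullback_of_descendsAlong (P := @Etale)
    (Q := ffqc) sqV ⟨⟨‹_›, ‹_›⟩, inferInstance⟩ hpe
  have hdTs : Surjective dT.left := ⟨fun t ↦ by
    obtain ⟨t', rfl⟩ := c.left.surjective t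
    obtain ⟨w, rfl⟩ := pT.left.surjective t'
    refine ⟨q₀.left w, ?_⟩
    show V.hom (q₀.left w) = c.left (pT.left w)
    exact (Scheme.Hom.comp_apply q₀.left V.hom w).symm.trans
      ((congrArg (fun m ↦ m w) sqV.w.symm).trans (Scheme.Hom.comp_apply pT.left c.left w))⟩
  have := isLocallySurjective_yon_map dT (fppfCover_mk dT.left)
  obtain ⟨b, hb⟩ := AlgSpace.exists_desc ((yon S).map dT) (IsPullback.of_hasPullback _ _)
    ((yon S).map l₀ ≫ u) (by
      refine AlgSpace.hom_ext fun Z z ↦ ?_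
      obtain ⟨r₁, hr₁⟩ := (yon S).map_surjective (z ≫ pullback.fst ((yon S).map dT) ((yon S).map dT))
      obtain ⟨r₂, hr₂⟩ := (yon S).map_surjective (z ≫ pullback.snd ((yon S).map dT) ((yon S).map dT))
      rw [← Category.assoc z, ← Category.assoc z, ← hr₁, ← hr₂]
      have hr : r₁ ≫ dT = r₂ ≫ dT := (yon S).map_injective (by
        rw [Functor.map_comp, Functor.map_comp, hr₁, hr₂, Category.assoc, Category.assoc,
          pullback.condition])
      exact agree hX sq ha hw hql ⟨⟨hqs, hqf⟩, (inferInstance : QuasiCompact q)⟩ r₁ r₂ hr)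
  refine ⟨b, ?_⟩
  have := epi_yon_map pT (fppfCover_mk pT.left)
  rw [← cancel_epi ((yon S).map pT), ← Category.assoc, ← Functor.map_comp, hw, Functor.map_comp,
    Category.assoc, hb, ← Category.assoc, ← Functor.map_comp, hql, ← sq.w]

end Groth.Agent.Lib.AlgSpGabber.Descent
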