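import Groth.Prelude.Def_AlgSpCov
import Groth.Agent.Lib.AlgSpGabber.Descent

/-!
# Morphisms into an algebraic space glue along fpqc coverings
-/

set_option autoImplicit false
set_option backward.isDefEq.respectTransparency false
set_option backward.isDefEq.respectTransparency.types false

universe u

open CategoryTheory CategoryTheory.Limits AlgebraicGeometry

namespace Groth.Agent.Lib.AlgSpGabber.HomDesc

open AlgSp (Sp yon IsAlgSpace RepWith Representable)
open Groth.Agent.Lib.AlgSpace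

variable {S : Scheme.{u}} {X B : Sp S} {ι : Type u} {Y : ι → Sp S} {f : ∀ i, Y i ⟶ X}

/-- The refinement condition in the definition of an fpqc covering. -/
def Refines (Y : ι → Sp S) (f : ∀ i, Y i ⟶ X) : Prop :=
  ∀ (Z : Over S), IsAffine Z.left → ∀ (h : (yon S).obj Z ⟶ X),
    ∃ (m : ℕ) (W : Fin m → Over S) (c : ∀ j, W j ⟶ Z),
      (∀ j, IsAffine (W j).left) ∧ (∀ j, Flat (c j).left) ∧
      (∀ z : ↥Z.left, ∃ j, z ∈ Set.range (c j).left) ∧
      ∀ j, ∃ (i : ι) (l : (yon S).obj (W j) ⟶ Y i), l ≫ f i = (yon S).map (c j) ≫ h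

/-- The refinement condition is stable under base change. -/
theorem Refines.baseChange {X' : Sp S} {Y' : ι → Sp S} {f' : ∀ i, Y' i ⟶ X'} {q : X' ⟶ X}
    {p : ∀ i, Y' i ⟶ Y i} (sq : ∀ i, IsPullback (p i) (f' i) (f i) q) (hf : Refines Y f) :
    Refines Y' f' := by
  intro Z hZ h
  obtain ⟨m, W, c, hW, hc, hs, hl⟩ := hf Z hZ (h ≫ q)
  refine ⟨m, W, c, hW, hc, hs, fun j ↦ ?_⟩
  obtain ⟨i, l, hl⟩ := hl j
  exact ⟨i, (sq i).lift l ((yon S).map (c j) ≫ h) (by rw [hl, Category.assoc]),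
    (sq i).lift_snd _ _ _⟩

/-- The standard form of the condition: one faithfully flat affine scheme with lifts on pieces. -/
theorem exists_refinement (hf : Refines Y f) (Z : Over S) [IsAffine Z.left]
    (z : (yon S).obj Z ⟶ X) :
    ∃ (m : Type u) (W : m → Over S) (c : sigmaOver W ⟶ Z), IsAffine (sigmaOver W).left ∧
      Flat c.left ∧ Surjective c.left ∧
      ∀ j, ∃ (i : ι) (l : (yon S).obj (W j) ⟶ Y i),
        l ≫ f i = (yon S).map (sigmaOverι W j ≫ c) ≫ z := by
  obtain ⟨m, W, c, hW, hc, hsurj, hl⟩ := hf Z ‹_› z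
  let W' : ULift.{u} (Fin m) → Over S := fun j ↦ W j.down
  let c' : sigmaOver W' ⟶ Z := Over.homMk (Sigma.desc fun j ↦ (c j.down).left)
    (Sigma.hom_ext _ _ fun j ↦ by simp [W'])
  have hι : ∀ j, sigmaOverι W' j ≫ c' = c j.down := fun j ↦
    Over.OverMorphism.ext (Sigma.ι_desc _ _)
  have : ∀ j : ULift.{u} (Fin m), IsAffine (W' j).left := fun j ↦ hW j.down
  have : Surjective c'.left := ⟨fun x ↦ by
    obtain ⟨j, w, hw⟩ := hsurj x
    refine ⟨(sigmaOverι W' ⟨j⟩).left w, ?_⟩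
    rw [← hw]
    exact (Scheme.Hom.comp_apply _ _ w).symm.trans
      (congrArg (fun k : W' ⟨j⟩ ⟶ Z ↦ k.left w) (hι ⟨j⟩))⟩
  refine ⟨_, W', c', inferInstanceAs (IsAffine (∐ fun j ↦ (W' j).left)),
    IsZariskiLocalAtSource.sigmaDesc (P := @Flat) fun j ↦ hc j.down, this, fun j ↦ ?_⟩
  rw [hι]
  exact hl j.down

/-- `b` is compatible with the given family on all lifts of `z`. -/
def Good (f : ∀ i, Y i ⟶ X) (bi : ∀ i, Y i ⟶ B) {Z : Over S} (z : (yon S).obj Z ⟶ X)
    (b : (yon S).obj Z ⟶ B) : Prop :=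
  ∀ (W : Over S) (w : W ⟶ Z) (i : ι) (l : (yon S).obj W ⟶ Y i),
    l ≫ f i = (yon S).map w ≫ z → (yon S).map w ≫ b = l ≫ bi i

theorem Good.map {bi : ∀ i, Y i ⟶ B} {Z Z' : Over S} {z : (yon S).obj Z ⟶ X}
    {b : (yon S).obj Z ⟶ B} (h : Good f bi z b) (k : Z' ⟶ Z) :
    Good f bi ((yon S).map k ≫ z) ((yon S).map k ≫ b) := by
  intro W w i l hl
  rw [← Category.assoc, ← Functor.map_comp]
  refine h W (w ≫ k) i l ?_
  rw [hl, Functor.map_comp, Category.assoc]

/-- The affine opens of a scheme over `S`, as a covering family. -/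
theorem exists_affine_family (Z : Over S) :
    ∃ (κ : Type u) (O : κ → Over S) (o : ∀ k, O k ⟶ Z), (∀ k, IsAffine (O k).left) ∧
      (∀ k, IsOpenImmersion (o k).left) ∧ (∀ x : ↥Z.left, ∃ k y, (o k).left y = x) := by
  let O : Z.left.affineCover.I₀ → Over S := fun k ↦ Over.mk (Z.left.affineCover.f k ≫ Z.hom)
  let o : ∀ k, O k ⟶ Z := fun k ↦ Over.homMk (Z.left.affineCover.f k)
  exact ⟨_, O, o, fun k ↦ (inferInstance : IsAffine (Z.left.affineCover.X k)),
    fun k ↦ (inferInstance : IsOpenImmersion (Z.left.affineCover.f k)),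
    fun x ↦ ⟨_, Z.left.affineCover.covers x⟩⟩

theorem ofArrows_mem_of_open {Z : Over S} {κ : Type u} (O : κ → Over S) (o : ∀ k, O k ⟶ Z)
    (ho : ∀ k, IsOpenImmersion (o k).left) (hs : ∀ x : ↥Z.left, ∃ k y, (o k).left y = x) :
    Sieve.ofArrows O o ∈ AlgSp.J S Z :=
  ofArrows_mem_J O o (fun k ↦ have := ho k; inferInstance) (fun k ↦ have := ho k; inferInstance) hs

theorem Good.unique (hf : Refines Y f) (hB : IsAlgSpace B) {bi : ∀ i, Y i ⟶ B} {Z : Over S}
    {z : (yon S).obj Z ⟶ X} {b b' : (yon S).obj Z ⟶ B} (h : Good f bi z b) (h' : Good f bi z b') :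
    b = b' := by
  obtain ⟨κ, O, o, hO, ho, hs⟩ := exists_affine_family Z
  refine hom_ext_of_family O o (ofArrows_mem_of_open O o ho hs) fun k ↦ ?_
  have := hO k
  obtain ⟨m, W, c, hW, hcf, hcs, hl⟩ := exists_refinement hf (O k) ((yon S).map (o k) ≫ z)
  refine Descent.hom_ext hB.diag c ⟨⟨hcs, hcf⟩, inferInstance⟩ ?_
  refine hom_ext_of_family W _ (sigmaOverι_mem_J W) fun j ↦ ?_
  obtain ⟨i, l, hl⟩ := hl j
  have e₁ := h.map (o k) (W j) (sigmaOverι W j ≫ c) i l hl
  have e₂ := h'.map (o k) (W j) (sigmaOverι W j ≫ c) i l hl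
  simp only [← Category.assoc, ← Functor.map_comp] at e₁ e₂ ⊢
  exact e₁.trans e₂.symm

theorem exists_good_affine (hf : Refines Y f) (hB : IsAlgSpace B) {bi : ∀ i, Y i ⟶ B}
    (hbi : ∀ i j, pullback.fst (f i) (f j) ≫ bi i = pullback.snd (f i) (f j) ≫ bi j)
    (Z : Over S) [IsAffine Z.left] (z : (yon S).obj Z ⟶ X) :
    ∃ b, Good f bi z b := by
  have hagree : ∀ {P : Over S} {i i' : ι} (l : (yon S).obj P ⟶ Y i) (l' : (yon S).obj P ⟶ Y i'),
      l ≫ f i = l' ≫ f i' → l ≫ bi i = l' ≫ bi i' := fun {P i i'} l l' h ↦ by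
    have := pullback.lift l l' h ≫= hbi i i'
    rwa [pullback.lift_fst_assoc, pullback.lift_snd_assoc] at this
  obtain ⟨m, W, c, hW, hcf, hcs, hl⟩ := exists_refinement hf Z z
  choose idx l hl using hl
  obtain ⟨a, ha, -⟩ := existsUnique_sigmaOver_desc W fun j ↦ l j ≫ bi (idx j)
  -- restrictions to pieces
  have piece : ∀ {P : Over S} (r : P ⟶ sigmaOver W) (j : m) (s : P ⟶ W j),
      s ≫ sigmaOverι W j = r → (yon S).map r ≫ a = ((yon S).map s ≫ l j) ≫ bi (idx j) ∧
        ((yon S).map s ≫ l j) ≫ f (idx j) = (yon S).map (r ≫ c) ≫ z := by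
    rintro P r j s rfl
    refine ⟨by rw [Functor.map_comp, Category.assoc, ha, Category.assoc], ?_⟩
    rw [Category.assoc, hl, ← Category.assoc, ← Functor.map_comp, Category.assoc s]
  -- decomposition of a scheme over the coproduct
  have decomp : ∀ {P : Over S} (r : P ⟶ sigmaOver W), ∃ (Q : m → Over S) (q : ∀ j, Q j ⟶ P)
      (s : ∀ j, Q j ⟶ W j), Sieve.ofArrows Q q ∈ AlgSp.J S P ∧
        ∀ j, s j ≫ sigmaOverι W j = q j ≫ r := by
    intro P r
    refine ⟨fun j ↦ pullback r (sigmaOverι W j), fun j ↦ pullback.fst _ _,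
      fun j ↦ pullback.snd _ _, ?_, fun j ↦ pullback.condition.symm⟩
    have hoi : ∀ j, IsOpenImmersion (pullback.fst r (sigmaOverι W j)).left := fun j ↦
      MorphismProperty.of_isPullback (P := @IsOpenImmersion)
        ((IsPullback.of_hasPullback r (sigmaOverι W j)).map (Over.forget S)).flip
        (inferInstanceAs (IsOpenImmersion (Sigma.ι (fun i ↦ (W i).left) j)))
    refine ofArrows_mem_of_open _ _ hoi fun x ↦ ?_
    obtain ⟨j, y, hy⟩ := (sigmaOpenCover (fun i ↦ (W i).left)).exists_eq (r.left x)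
    obtain ⟨p, hp, -⟩ := Scheme.exists_preimage_of_isPullback
      ((IsPullback.of_hasPullback r (sigmaOverι W j)).map (Over.forget S)) x y hy.symm
    exact ⟨j, p, hp⟩
  obtain ⟨b, hb⟩ := Descent.exists_desc hB c a fun P r₁ r₂ h ↦ by
    obtain ⟨Q, q, s, hQ, hs⟩ := decomp r₁
    refine hom_ext_of_family Q q hQ fun j ↦ ?_
    obtain ⟨Q', q', s', hQ', hs'⟩ := decomp (q j ≫ r₂)
    refine hom_ext_of_family Q' q' hQ' fun j' ↦ ?_
    obtain ⟨e₁, e₁'⟩ := piece (q' j' ≫ q j ≫ r₁) j (q' j' ≫ s j)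
      (by rw [Category.assoc, hs j])
    obtain ⟨e₂, e₂'⟩ := piece (q' j' ≫ q j ≫ r₂) j' (s' j') (hs' j')
    simp only [← Category.assoc, ← Functor.map_comp] at e₁ e₂ ⊢
    rw [e₁, e₂]
    refine hagree _ _ ?_
    rw [e₁', e₂']
    simp only [Category.assoc, h]
  refine ⟨b, fun V w i k hk ↦ ?_⟩
  have sq := IsPullback.of_hasPullback w c
  have hq : Descent.ffqc (pullback.fst w c).left := by
    have : IsAffineHom c.left := isAffineHom_of_isAffine _
    exact ⟨⟨MorphismProperty.of_isPullback (P := @Surjective) (sq.map (Over.forget S)).flip hcs,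
      MorphismProperty.of_isPullback (P := @Flat) (sq.map (Over.forget S)).flip hcf⟩,
      MorphismProperty.of_isPullback (P := @QuasiCompact) (sq.map (Over.forget S)).flip
        (inferInstanceAs (QuasiCompact c.left))⟩
  refine Descent.hom_ext hB.diag (pullback.fst w c) hq ?_
  obtain ⟨Q, q, s, hQ, hs⟩ := decomp (pullback.snd w c)
  refine hom_ext_of_family Q q hQ fun j ↦ ?_
  obtain ⟨e, e'⟩ := piece (q j ≫ pullback.snd w c) j (s j) (hs j)
  rw [← Category.assoc ((yon S).map (pullback.fst w c)), ← Functor.map_comp, pullback.condition,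
    Functor.map_comp, Category.assoc, hb, ← Category.assoc ((yon S).map (q j)),
    ← Functor.map_comp, e, ← Category.assoc ((yon S).map (pullback.fst w c)),
    ← Category.assoc ((yon S).map (q j))]
  refine hagree _ _ ?_
  rw [e']
  simp only [Category.assoc, hk]
  simp only [← Category.assoc, ← Functor.map_comp]
  simp only [Category.assoc, pullback.condition]

theorem exists_good (hf : Refines Y f) (hB : IsAlgSpace B) {bi : ∀ i, Y i ⟶ B}
    (hbi : ∀ i j, pullback.fst (f i) (f j) ≫ bi i = pullback.snd (f i) (f j) ≫ bi j)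
    (Z : Over S) (z : (yon S).obj Z ⟶ X) :
    ∃ b, Good f bi z b := by
  obtain ⟨κ, O, o, hO, ho, hs⟩ := exists_affine_family Z
  have hex : ∀ k, ∃ b, Good f bi ((yon S).map (o k) ≫ z) b := fun k ↦
    have := hO k
    exists_good_affine hf hB hbi (O k) _
  choose bO hbO using hex
  obtain ⟨b, hb, -⟩ := exists_desc_of_family O o (ofArrows_mem_of_open O o ho hs) bO
    fun k k' W g g' h ↦ by
      have e₁ := (hbO k).map g
      have e₂ := (hbO k').map g'
      rw [← Category.assoc, ← Functor.map_comp, h, Functor.map_comp, Category.assoc] at e₁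
      exact e₁.unique hf hB e₂
  refine ⟨b, fun V w i l hl ↦ ?_⟩
  have hP : ∀ k, IsOpenImmersion (pullback.fst w (o k)).left := fun k ↦
    MorphismProperty.of_isPullback (P := @IsOpenImmersion)
      ((IsPullback.of_hasPullback w (o k)).map (Over.forget S)).flip (ho k)
  refine hom_ext_of_family (fun k ↦ pullback w (o k)) (fun k ↦ pullback.fst _ _)
    (ofArrows_mem_of_open _ _ hP fun x ↦ ?_) fun k ↦ ?_
  · obtain ⟨k, y, hy⟩ := hs (w.left x)
    obtain ⟨p, hp, -⟩ := Scheme.exists_preimage_of_isPullback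
      ((IsPullback.of_hasPullback w (o k)).map (Over.forget S)) x y hy.symm
    exact ⟨k, p, hp⟩
  · rw [← Category.assoc, ← Functor.map_comp, pullback.condition, Functor.map_comp, Category.assoc,
      hb, ← Category.assoc]
    refine hbO k _ _ i _ ?_
    rw [Category.assoc, hl, ← Category.assoc, ← Functor.map_comp, pullback.condition,
      Functor.map_comp, Category.assoc]

/-- Maps from the target of an fpqc covering are determined by their restrictions. -/
theorem hom_ext (hf : Refines Y f) (hB : IsAlgSpace B) {a b : X ⟶ B}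
    (h : ∀ i, f i ≫ a = f i ≫ b) : a = b := by
  refine AlgSpace.hom_ext fun Z z ↦ ?_
  refine Good.unique hf hB (bi := fun i ↦ f i ≫ a) (z := z) ?_ ?_
  · intro W w i l hl
    rw [← Category.assoc, ← hl, Category.assoc]
  · intro W w i l hl
    rw [← Category.assoc, ← hl, Category.assoc]
    exact congrArg (l ≫ ·) (h i).symm

/-- Compatible maps from an fpqc covering glue. -/
theorem exists_glue (hf : Refines Y f) (hB : IsAlgSpace B) (bi : ∀ i, Y i ⟶ B)
    (hbi : ∀ i j, pullback.fst (f i) (f j) ≫ bi i = pullback.snd (f i) (f j) ≫ bi j) :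
    ∃ b : X ⟶ B, ∀ i, f i ≫ b = bi i := by
  choose φ hφ using exists_good hf hB hbi
  refine ⟨homMkYon φ fun {T T'} g a ↦ (hφ T' _).unique hf hB ((hφ T a).map g), fun i ↦ ?_⟩
  refine AlgSpace.hom_ext fun W y ↦ ?_
  rw [← Category.assoc, comp_homMkYon]
  have := hφ W (y ≫ f i) W (𝟙 W) i y (by simp)
  simpa using this

end Groth.Agent.Lib.AlgSpGabber.HomDesc
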